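import Mathlib

/-!
# Ring-theoretic core of "a monomorphism of finite type is generically an immersion"

If `A → B` is an epimorphism of finite type with `A` noetherian, `q` a prime of `B` over `p`
such that every prime of `B` lying over a generization of `p` equals `q`, then there is `t ∉ p`
with `A_t → B_t` surjective.
-/

universe u

open CategoryTheory

namespace Groth.Agent.Lib.Helper24.MonoImm

variable {A B : Type u} [CommRing A] [CommRing B] [Algebra A B]

theorem isEpi_localization [Algebra.IsEpi A B] (p : Ideal A) [p.IsPrime] :
    Algebra.IsEpi (Localization.AtPrime p)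
      (Localization (Algebra.algebraMapSubmonoid B p.primeCompl)) := by
  rw [← CommRingCat.epi_iff_epi]
  have h1 : Epi (CommRingCat.ofHom (algebraMap A B)) := CommRingCat.epi_iff_epi.mpr inferInstance
  have h2 : Epi (CommRingCat.ofHom (algebraMap B
      (Localization (Algebra.algebraMapSubmonoid B p.primeCompl)))) :=
    IsLocalization.epi (Algebra.algebraMapSubmonoid B p.primeCompl) _
  have h3 : Epi (CommRingCat.ofHom (algebraMap A B) ≫ CommRingCat.ofHom (algebraMap B
      (Localization (Algebra.algebraMapSubmonoid B p.primeCompl)))) := epi_comp _ _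
  have e : CommRingCat.ofHom (algebraMap A B) ≫ CommRingCat.ofHom (algebraMap B
      (Localization (Algebra.algebraMapSubmonoid B p.primeCompl))) =
      CommRingCat.ofHom (algebraMap A (Localization.AtPrime p)) ≫
        CommRingCat.ofHom (algebraMap (Localization.AtPrime p)
          (Localization (Algebra.algebraMapSubmonoid B p.primeCompl))) := by
    ext r
    simp only [CommRingCat.hom_comp, CommRingCat.hom_ofHom, RingHom.comp_apply]
    rw [← IsScalarTower.algebraMap_apply, ← IsScalarTower.algebraMap_apply]
  rw [e] at h3
  exact epi_of_epi (CommRingCat.ofHom (algebraMap A (Localization.AtPrime p))) _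

/-- Spreading out surjectivity of `A_p → B_p` for a finite type algebra. -/
theorem exists_spread [Algebra.FiniteType A B] (p : Ideal A) [p.IsPrime]
    (h : Function.Surjective (algebraMap (Localization.AtPrime p)
      (Localization (Algebra.algebraMapSubmonoid B p.primeCompl)))) :
    ∃ t, t ∉ p ∧ ∀ b : B, ∃ (m : ℕ) (a : A),
      algebraMap A B t ^ m * b = algebraMap A B a := by
  classical
  -- pointwise statement
  have key : ∀ b : B, ∃ u : A, u ∉ p ∧ ∃ a : A, algebraMap A B u * b = algebraMap A B a := by
    intro b
    obtain ⟨x, hx⟩ := h (algebraMap B _ b)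
    obtain ⟨a, s, rfl⟩ := IsLocalization.exists_mk'_eq p.primeCompl x
    have h1 : algebraMap B (Localization (Algebra.algebraMapSubmonoid B p.primeCompl))
        (b * algebraMap A B s) =
        algebraMap B (Localization (Algebra.algebraMapSubmonoid B p.primeCompl))
        (algebraMap A B a) := by
      have e1 : algebraMap B (Localization (Algebra.algebraMapSubmonoid B p.primeCompl))
          (algebraMap A B s) = algebraMap (Localization.AtPrime p) _
            (algebraMap A (Localization.AtPrime p) s) := by
        rw [← IsScalarTower.algebraMap_apply, ← IsScalarTower.algebraMap_apply]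
      have e2 : algebraMap B (Localization (Algebra.algebraMapSubmonoid B p.primeCompl))
          (algebraMap A B a) = algebraMap (Localization.AtPrime p) _
            (algebraMap A (Localization.AtPrime p) a) := by
        rw [← IsScalarTower.algebraMap_apply, ← IsScalarTower.algebraMap_apply]
      rw [map_mul, ← hx, e1, e2, ← map_mul, IsLocalization.mk'_spec]
    obtain ⟨⟨c, u, hu, rfl⟩, hc⟩ := (IsLocalization.eq_iff_exists
      (Algebra.algebraMapSubmonoid B p.primeCompl) _).1 h1
    refine ⟨u * s, ?_, u * a, ?_⟩
    · exact fun hus => (Ideal.IsPrime.mem_or_mem inferInstance hus).elim hu s.2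
    · simp only [map_mul] at hc ⊢
      linear_combination hc
  obtain ⟨s, hs⟩ := Algebra.FiniteType.out (R := A) (A := B)
  choose u hu a ha using key
  refine ⟨∏ b ∈ s, u b, ?_, ?_⟩
  · intro hmem
    obtain ⟨b, -, hb⟩ := (Ideal.IsPrime.prod_mem_iff (hp := inferInstance)).1 hmem
    exact hu b hb
  · intro b
    have hb : b ∈ Algebra.adjoin A (s : Set B) := hs ▸ Algebra.mem_top
    induction hb using Algebra.adjoin_induction with
    | mem x hx =>
      obtain ⟨c, hc⟩ := Finset.dvd_prod_of_mem u hx
      refine ⟨1, c * a x, ?_⟩
      rw [pow_one, hc, map_mul, map_mul, ← ha x]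
      ring
    | algebraMap r => exact ⟨0, r, by simp⟩
    | add x y _ _ hx hy =>
      obtain ⟨m1, a1, h1⟩ := hx
      obtain ⟨m2, a2, h2⟩ := hy
      refine ⟨m1 + m2, (∏ b ∈ s, u b) ^ m2 * a1 + (∏ b ∈ s, u b) ^ m1 * a2, ?_⟩
      rw [map_add, map_mul, map_mul, ← h1, ← h2, map_pow, map_pow]
      ring
    | mul x y _ _ hx hy =>
      obtain ⟨m1, a1, h1⟩ := hx
      obtain ⟨m2, a2, h2⟩ := hy
      refine ⟨m1 + m2, a1 * a2, ?_⟩
      rw [map_mul, ← h1, ← h2]
      ring

set_option backward.isDefEq.respectTransparency false in
/-- The key step: `A_p → B_p` is surjective. -/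
theorem surjective_localization [IsNoetherianRing A] [Algebra.FiniteType A B] [Algebra.IsEpi A B]
    (p : Ideal A) [p.IsPrime] (q : Ideal B) [q.IsPrime] (hq : q.comap (algebraMap A B) = p)
    (H : ∀ q' : Ideal B, q'.IsPrime → q'.comap (algebraMap A B) ≤ p → q' = q) :
    Function.Surjective (algebraMap (Localization.AtPrime p)
      (Localization (Algebra.algebraMapSubmonoid B p.primeCompl))) := by
  -- every prime `Q` of `B_p` contracts to `q`
  have hQ : ∀ Q : Ideal (Localization (Algebra.algebraMapSubmonoid B p.primeCompl)), Q.IsPrime →
      Q.comap (algebraMap B (Localization (Algebra.algebraMapSubmonoid B p.primeCompl))) = q := by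
    intro Q hQ
    apply H _ (Ideal.comap_isPrime _ _)
    intro x hx
    by_contra hxp
    have hu : IsUnit (algebraMap B (Localization (Algebra.algebraMapSubmonoid B p.primeCompl))
        (algebraMap A B x)) :=
      IsLocalization.map_units _ (⟨algebraMap A B x,
        Algebra.mem_algebraMapSubmonoid_of_mem ⟨x, hxp⟩⟩ :
          Algebra.algebraMapSubmonoid B p.primeCompl)
    exact hQ.ne_top (Ideal.eq_top_of_isUnit_mem _ hx hu)
  have hft : Algebra.FiniteType (Localization.AtPrime p)
      (Localization (Algebra.algebraMapSubmonoid B p.primeCompl)) := by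
    haveI : IsLocalization (Submonoid.map (algebraMap A B) p.primeCompl)
        (Localization (Algebra.algebraMapSubmonoid B p.primeCompl)) :=
      inferInstanceAs (IsLocalization (Algebra.algebraMapSubmonoid B p.primeCompl) _)
    have := RingHom.finiteType_localizationPreserves (algebraMap A B) p.primeCompl
      (Localization.AtPrime p) (Localization (Algebra.algebraMapSubmonoid B p.primeCompl))
      (RingHom.finiteType_algebraMap.2 inferInstance)
    rw [← IsLocalization.algebraMap_eq_map_map_submonoid] at this
    exact RingHom.finiteType_algebraMap.1 this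
  have hsub : Subsingleton
      (PrimeSpectrum (Localization (Algebra.algebraMapSubmonoid B p.primeCompl))) :=
    ⟨fun Q Q' => PrimeSpectrum.ext (by
      have h1 := hQ _ Q.2
      have h2 := hQ _ Q'.2
      rw [← IsLocalization.map_under (Algebra.algebraMapSubmonoid B p.primeCompl) _ Q.asIdeal,
        ← IsLocalization.map_under (Algebra.algebraMapSubmonoid B p.primeCompl) _ Q'.asIdeal]
      simp only [Ideal.under_def, h1, h2])⟩
  have hqf : Algebra.QuasiFinite (Localization.AtPrime p)
      (Localization (Algebra.algebraMapSubmonoid B p.primeCompl)) :=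
    Algebra.QuasiFinite.iff_finite_comap_preimage_singleton.mpr (fun x => Set.toFinite _)
  have hm : (IsLocalRing.maximalIdeal (Localization.AtPrime p)).map
      (algebraMap (Localization.AtPrime p)
        (Localization (Algebra.algebraMapSubmonoid B p.primeCompl))) ≤
      nilradical (Localization (Algebra.algebraMapSubmonoid B p.primeCompl)) := by
    rw [nilradical_eq_sInf]
    refine le_sInf fun Q hQ' => ?_
    rw [← Localization.AtPrime.map_eq_maximalIdeal, Ideal.map_map, ← IsScalarTower.algebraMap_eq,
      IsScalarTower.algebraMap_eq A B (Localization (Algebra.algebraMapSubmonoid B p.primeCompl)),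
      ← Ideal.map_map, Ideal.map_le_iff_le_comap, Ideal.map_le_iff_le_comap, hQ Q hQ', hq]
  have hnoeth : IsNoetherianRing (Localization.AtPrime p) :=
    IsLocalization.isNoetherianRing p.primeCompl _ inferInstance
  have hfin : Module.Finite (Localization.AtPrime p)
      (Localization (Algebra.algebraMapSubmonoid B p.primeCompl)) := by
    let m := IsLocalRing.maximalIdeal (Localization.AtPrime p)
    let e : m.Fiber (Localization (Algebra.algebraMapSubmonoid B p.primeCompl)) ≃ₐ[Localization.AtPrime p]
        (Localization (Algebra.algebraMapSubmonoid B p.primeCompl)) ⧸ m.map (algebraMap (Localization.AtPrime p)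
          (Localization (Algebra.algebraMapSubmonoid B p.primeCompl))) :=
      (Algebra.TensorProduct.congr (.symm <| .ofBijective _
        (Ideal.bijective_algebraMap_quotient_residueField m)) .refl).trans <|
      (Algebra.TensorProduct.comm _ _ _).trans
      ((Algebra.TensorProduct.quotIdealMapEquivTensorQuot
        (Localization (Algebra.algebraMapSubmonoid B p.primeCompl)) m).symm.restrictScalars _)
    have : Module.Finite (Localization.AtPrime p)
        ((Localization (Algebra.algebraMapSubmonoid B p.primeCompl)) ⧸
          m.map (algebraMap (Localization.AtPrime p)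
            (Localization (Algebra.algebraMapSubmonoid B p.primeCompl)))) :=
      have : Module.Finite (Localization.AtPrime p)
          (m.Fiber (Localization (Algebra.algebraMapSubmonoid B p.primeCompl))) :=
        .trans m.ResidueField _
      .of_surjective e.toLinearMap e.surjective
    refine Module.finite_of_surjective_of_ker_le_nilradical (Ideal.Quotient.mkₐ (Localization.AtPrime p)
      (m.map (algebraMap (Localization.AtPrime p)
        (Localization (Algebra.algebraMapSubmonoid B p.primeCompl))))) Ideal.Quotient.mk_surjective ?_ ?_
    · exact Ideal.mk_ker.trans_le hm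
    · rw [← RingHom.ker_coe_toRingHom, Ideal.Quotient.mkₐ_ker]
      exact Ideal.FG.map (IsNoetherian.noetherian _) _
  have hepi := isEpi_localization (A := A) (B := B) p
  exact Algebra.isEpi_iff_surjective_algebraMap_of_finite.1 hepi

/-- The ring-theoretic core. -/
theorem exists_spread_of_epi [IsNoetherianRing A] [Algebra.FiniteType A B] [Algebra.IsEpi A B]
    (p : Ideal A) [p.IsPrime] (q : Ideal B) [q.IsPrime] (hq : q.comap (algebraMap A B) = p)
    (H : ∀ q' : Ideal B, q'.IsPrime → q'.comap (algebraMap A B) ≤ p → q' = q) :
    ∃ t, t ∉ p ∧ ∀ b : B, ∃ (m : ℕ) (a : A),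
      algebraMap A B t ^ m * b = algebraMap A B a :=
  exists_spread p (surjective_localization p q hq H)

end Groth.Agent.Lib.Helper24.MonoImm
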