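import Mathlib

/-!
# Topological lemmas for "a monomorphism of finite type is generically an immersion"
-/

open TopologicalSpace

namespace Groth.Agent.Lib.Helper24.MonoImm

variable {X Y : Type*} [TopologicalSpace X] [TopologicalSpace Y]

/-- For a continuous map from a nonempty noetherian quasi-sober space to a T0 space there is a point
`η` whose image is maximal (for generization) among the points of the image. -/
theorem exists_max_point [NoetherianSpace X] [QuasiSober X] [Nonempty X] [T0Space Y]
    (φ : X → Y) (hφ : Continuous φ) :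
    ∃ η : X, ∀ x, φ x ⤳ φ η → φ x = φ η := by
  obtain ⟨S, hSf, hSc, hSi, hSU⟩ :=
    NoetherianSpace.exists_finite_set_isClosed_irreducible (isClosed_univ (X := X))
  have hne : S.Nonempty := by
    obtain ⟨x⟩ := ‹Nonempty X›
    have hx : x ∈ ⋃₀ S := hSU ▸ Set.mem_univ x
    obtain ⟨t, ht, -⟩ := hx
    exact ⟨t, ht⟩
  obtain ⟨t, htS, htmax⟩ := hSf.exists_maximalFor (fun t => closure (φ '' t)) S hne
  obtain ⟨η, hη⟩ := QuasiSober.sober (hSi t htS) (hSc t htS)
  refine ⟨η, fun x hx => ?_⟩
  have hgen : closure {φ η} = closure (φ '' t) := hη.image hφ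
  obtain ⟨t', ht', hxt'⟩ : x ∈ ⋃₀ S := hSU ▸ Set.mem_univ x
  have h1 : φ x ∈ closure (φ '' t') := subset_closure ⟨x, hxt', rfl⟩
  have h2 : closure (φ '' t) ⊆ closure (φ '' t') := by
    rw [← hgen]
    apply closure_minimal _ isClosed_closure
    rw [Set.singleton_subset_iff]
    exact closure_minimal (Set.singleton_subset_iff.2 h1) isClosed_closure
      (specializes_iff_mem_closure.1 hx)
  have h3 : closure (φ '' t') ⊆ closure (φ '' t) := htmax ht' h2
  have h4 : φ η ⤳ φ x := specializes_iff_mem_closure.2 (hgen ▸ h3 h1)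
  exact (hx.antisymm h4).eq

/-- If `φ η` is maximal among the points of the image of the injective continuous map `φ` and `T`
is a closed set not containing `η`, then `φ η ∉ closure (φ '' T)`. -/
theorem not_mem_closure_image [NoetherianSpace X] [QuasiSober X] [T0Space Y]
    (φ : X → Y) (hφ : Continuous φ) (hinj : Function.Injective φ) (η : X)
    (hη : ∀ x, φ x ⤳ φ η → φ x = φ η) (T : Set X) (hT : IsClosed T) (hηT : η ∉ T) :
    φ η ∉ closure (φ '' T) := by
  obtain ⟨S, hSf, hSc, hSi, rfl⟩ := NoetherianSpace.exists_finite_set_isClosed_irreducible hT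
  intro h
  rw [Set.sUnion_eq_biUnion, Set.image_iUnion₂, hSf.closure_biUnion] at h
  simp only [Set.mem_iUnion] at h
  obtain ⟨t, ht, hmem⟩ := h
  obtain ⟨g, hg⟩ := QuasiSober.sober (hSi t ht) (hSc t ht)
  have hgen : closure {φ g} = closure (φ '' t) := hg.image hφ
  rw [← hgen] at hmem
  have := hinj (hη g (specializes_iff_mem_closure.2 hmem))
  exact hηT ⟨t, ht, this ▸ hg.mem⟩

end Groth.Agent.Lib.Helper24.MonoImm
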