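import Mathlib
import Groth.Agent.Lib.Helper24.MonoImm.Ring
import Groth.Agent.Lib.Helper24.MonoImm.Top

/-!
# The affine step of "a monomorphism of finite type is generically a closed immersion"
-/

set_option autoImplicit false
universe u

open CategoryTheory AlgebraicGeometry Limits

namespace Groth.Agent.Lib.Helper24.MonoImm

theorem surjective_awayMap {A B : Type*} [CommRing A] [CommRing B] (f : A →+* B) (r : A)
    (At Bt : Type*) [CommRing At] [CommRing Bt] [Algebra A At] [Algebra B Bt]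
    [IsLocalization.Away r At] [IsLocalization.Away (f r) Bt]
    (h : ∀ b : B, ∃ (m : ℕ) (a : A), f r ^ m * b = f a) :
    Function.Surjective (IsLocalization.Away.map At Bt f r) := by
  intro x
  obtain ⟨⟨b, ⟨_, n, rfl⟩⟩, hx⟩ := IsLocalization.surj (Submonoid.powers (f r)) x
  obtain ⟨m, a, hma⟩ := h b
  refine ⟨IsLocalization.mk' At a (⟨r ^ (n + m), n + m, rfl⟩ : Submonoid.powers r), ?_⟩
  rw [IsLocalization.Away.map, IsLocalization.map_mk', IsLocalization.mk'_eq_iff_eq_mul]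
  simp only at hx ⊢
  rw [map_pow, pow_add, map_mul, ← mul_assoc, hx, ← map_mul, ← hma, mul_comm]

variable {X Y : Scheme.{u}} (φ : X ⟶ Y)

theorem epi_app_of_mono [Mono φ] {U : Y.Opens} (hU : IsAffineOpen U)
    (hU' : IsAffineOpen (φ ⁻¹ᵁ U)) : Epi (φ.app U) := by
  have h1 : Spec.map (φ.app U) ≫ hU.fromSpec = hU'.fromSpec ≫ φ := by
    rw [Scheme.Hom.app_eq_appLE]
    exact IsAffineOpen.SpecMap_appLE_fromSpec φ hU hU' _
  have h2 : Mono (Spec.map (φ.app U)) := by
    have : Mono (Spec.map (φ.app U) ≫ hU.fromSpec) := by rw [h1]; infer_instance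
    exact mono_of_mono _ hU.fromSpec
  constructor
  intro C g h hgh
  have e : Spec.map g ≫ Spec.map (φ.app U) = Spec.map h ≫ Spec.map (φ.app U) := by
    rw [← Spec.map_comp, ← Spec.map_comp, hgh]
  exact Spec.map_injective ((cancel_mono _).1 e)

theorem surjective_comp' {A B C : CommRingCat.{u}} (f : A ⟶ B) (g : B ⟶ C)
    (hf : Function.Surjective f) (hg : Function.Surjective g) : Function.Surjective (f ≫ g) := by
  intro x
  obtain ⟨y, rfl⟩ := hg x
  obtain ⟨z, rfl⟩ := hf y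
  exact ⟨z, by simp⟩

theorem surjective_app_of_eq {U V : Y.Opens} (h : U = V) (hs : Function.Surjective (φ.app V)) :
    Function.Surjective (φ.app U) := by
  subst h; exact hs

/-- closed immersion over a basic open when sections are surjective -/
theorem isClosedImmersion_restrict_of_surjective {V : Y.Opens} (hV : IsAffineOpen V)
    (hV' : IsAffineOpen (φ ⁻¹ᵁ V)) (hs : Function.Surjective (φ.app V)) :
    IsClosedImmersion (φ ∣_ V) := by
  haveI : IsAffine ↑V := hV
  haveI : IsAffine ↑(φ ⁻¹ᵁ V) := hV'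
  apply IsClosedImmersion.of_surjective_of_isAffine
  rw [morphismRestrict_appTop]
  have h1 : Function.Surjective (φ.app (V.ι ''ᵁ ⊤)) :=
    surjective_app_of_eq φ (by simp) hs
  have h2 : Function.Surjective
      (X.presheaf.map (eqToHom (image_morphismRestrict_preimage φ V ⊤)).op) :=
    (ConcreteCategory.bijective_of_isIso _).surjective
  exact surjective_comp' _ _ h1 h2

set_option backward.isDefEq.respectTransparency false in
/-- The affine step. -/
theorem exists_basicOpen_isClosedImmersion [Mono φ] [LocallyOfFiniteType φ]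
    [IsLocallyNoetherian Y] {U : Y.Opens} (hU : IsAffineOpen U)
    (hU' : IsAffineOpen (φ ⁻¹ᵁ U)) (η : X) (hηU : φ η ∈ U)
    (hη : ∀ x, φ x ⤳ φ η → φ x = φ η) :
    ∃ r : Γ(Y, U), φ η ∈ Y.basicOpen r ∧ IsClosedImmersion (φ ∣_ Y.basicOpen r) := by
  letI : Algebra Γ(Y, U) Γ(X, φ ⁻¹ᵁ U) := (φ.app U).hom.toAlgebra
  haveI : IsNoetherianRing Γ(Y, U) := IsLocallyNoetherian.component_noetherian ⟨U, hU⟩
  have happ : φ.app U = φ.appLE U (φ ⁻¹ᵁ U) le_rfl := Scheme.Hom.app_eq_appLE _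
  haveI : Algebra.FiniteType Γ(Y, U) Γ(X, φ ⁻¹ᵁ U) := by
    have := LocallyOfFiniteType.finiteType_appLE φ hU hU' le_rfl
    rw [← happ] at this
    exact RingHom.finiteType_algebraMap.1 this
  haveI : Algebra.IsEpi Γ(Y, U) Γ(X, φ ⁻¹ᵁ U) := by
    have := epi_app_of_mono φ hU hU'
    rw [← CommRingCat.epi_iff_epi]
    exact this
  have hinj : Function.Injective φ := φ.injective
  have hηU' : η ∈ φ ⁻¹ᵁ U := hηU
  have hq : (hU'.primeIdealOf ⟨η, hηU'⟩).asIdeal.comap (algebraMap Γ(Y, U) Γ(X, φ ⁻¹ᵁ U)) =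
      (hU.primeIdealOf ⟨φ η, hηU⟩).asIdeal := by
    have := IsAffineOpen.comap_primeIdealOf_appLE U hU (φ ⁻¹ᵁ U) hU' le_rfl hηU'
    rw [← happ] at this
    exact congrArg PrimeSpectrum.asIdeal this
  have H : ∀ q' : Ideal Γ(X, φ ⁻¹ᵁ U), q'.IsPrime →
      q'.comap (algebraMap Γ(Y, U) Γ(X, φ ⁻¹ᵁ U)) ≤ (hU.primeIdealOf ⟨φ η, hηU⟩).asIdeal →
      q' = (hU'.primeIdealOf ⟨η, hηU'⟩).asIdeal := by
    intro q' hq' hle
    let z : Spec Γ(X, φ ⁻¹ᵁ U) := ⟨q', hq'⟩
    have h1 : Spec.map (φ.app U) z ⤳ hU.primeIdealOf ⟨φ η, hηU⟩ := by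
      rw [← PrimeSpectrum.le_iff_specializes]
      exact hle
    have h2 : hU.fromSpec (Spec.map (φ.app U) z) ⤳ hU.fromSpec (hU.primeIdealOf ⟨φ η, hηU⟩) :=
      h1.map hU.fromSpec.continuous
    rw [hU.fromSpec_primeIdealOf, ← Scheme.Hom.comp_apply, happ,
      IsAffineOpen.SpecMap_appLE_fromSpec φ hU hU' le_rfl, Scheme.Hom.comp_apply] at h2
    have h3 := hinj (hη _ h2)
    have h4 : z = hU'.primeIdealOf ⟨η, hηU'⟩ := by
      apply hU'.fromSpec.isOpenEmbedding.injective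
      rw [h3, hU'.fromSpec_primeIdealOf]
    exact congrArg PrimeSpectrum.asIdeal h4
  obtain ⟨t, htp, ht⟩ := exists_spread_of_epi (hU.primeIdealOf ⟨φ η, hηU⟩).asIdeal
    (hU'.primeIdealOf ⟨η, hηU'⟩).asIdeal hq H
  refine ⟨t, ?_, ?_⟩
  · have h1 : hU.primeIdealOf ⟨φ η, hηU⟩ ∈ hU.fromSpec ⁻¹ᵁ Y.basicOpen t := by
      rw [hU.fromSpec_preimage_basicOpen]
      exact htp
    have h2 : hU.fromSpec (hU.primeIdealOf ⟨φ η, hηU⟩) ∈ Y.basicOpen t := h1
    rwa [hU.fromSpec_primeIdealOf] at h2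
  · have hV' : IsAffineOpen (φ ⁻¹ᵁ Y.basicOpen t) := by
      rw [Scheme.preimage_basicOpen]
      exact hU'.basicOpen _
    apply isClosedImmersion_restrict_of_surjective φ (hU.basicOpen t) hV'
    rw [hU.app_basicOpen_eq_away_map φ hU' t]
    refine surjective_comp' _ _ ?_ (ConcreteCategory.bijective_of_isIso _).surjective
    haveI := hU.isLocalization_basicOpen t
    haveI := hU'.isLocalization_basicOpen (φ.app U t)
    exact surjective_awayMap (φ.app U).hom t _ _ ht

end Groth.Agent.Lib.Helper24.MonoImm
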