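import Mathlib
import Groth.Agent.Lib.Helper24.MonoImm.Affine

/-!
# A monomorphism of finite type is a closed immersion over a dense open of the target
-/

set_option autoImplicit false
universe u

open CategoryTheory AlgebraicGeometry Limits

namespace Groth.Agent.Lib.Helper24.MonoImm

variable {X Y : Scheme.{u}} (φ : X ⟶ Y)

/-- the largest open subset of the target over which `f` has `P` -/
theorem exists_largest_open (P : MorphismProperty Scheme.{u}) [IsZariskiLocalAtTarget P] :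
    ∃ V : Y.Opens, P (φ ∣_ V) ∧ ∀ V' : Y.Opens, P (φ ∣_ V') → V' ≤ V := by
  let V : Y.Opens := ⨆ i : {V' : Y.Opens // P (φ ∣_ V')}, i.1
  refine ⟨V, ?_, fun V' hV' => le_iSup (fun i : {V' : Y.Opens // P (φ ∣_ V')} => i.1) ⟨V', hV'⟩⟩
  apply IsZariskiLocalAtTarget.of_iSup_eq_top
    (fun i : {V' : Y.Opens // P (φ ∣_ V')} => V.ι ⁻¹ᵁ i.1)
  · rw [eq_top_iff]
    rintro ⟨x, hx⟩ -
    obtain ⟨i, hi⟩ := TopologicalSpace.Opens.mem_iSup.1 hx
    exact TopologicalSpace.Opens.mem_iSup.2 ⟨i, hi⟩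
  · intro i
    rw [P.arrow_mk_iso_iff (morphismRestrictRestrict φ V (V.ι ⁻¹ᵁ i.1))]
    have e : V.ι ''ᵁ (V.ι ⁻¹ᵁ i.1) = i.1 := by
      rw [Scheme.Hom.image_preimage_eq_opensRange_inf, Scheme.Opens.opensRange_ι]
      exact inf_eq_right.2 (le_iSup (fun i : {V' : Y.Opens // P (φ ∣_ V')} => i.1) i)
    rw [e]
    exact i.2

/-- existence of a nonempty open over which a mono of finite type is a closed immersion -/
theorem exists_open_isClosedImmersion [Mono φ] [LocallyOfFiniteType φ]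
    [IsLocallyNoetherian Y] [TopologicalSpace.NoetherianSpace X] [Nonempty X] :
    ∃ V : Y.Opens, Nonempty ↥(φ ⁻¹ᵁ V) ∧ IsClosedImmersion (φ ∣_ V) := by
  obtain ⟨η, hη⟩ := exists_max_point φ φ.continuous
  have hinj : Function.Injective φ := φ.injective
  obtain ⟨U₀, hU₀, hξU₀, -⟩ :=
    exists_isAffineOpen_mem_and_subset (x := φ η) (U := ⊤) trivial
  obtain ⟨W, hW, hηW, hWU'⟩ :=
    exists_isAffineOpen_mem_and_subset (x := η) (U := φ ⁻¹ᵁ U₀) hξU₀
  have hWU : W ≤ φ ⁻¹ᵁ U₀ := hWU'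
  have hT := not_mem_closure_image φ φ.continuous hinj η hη ((W : Set X)ᶜ)
    W.isOpen.isClosed_compl (fun h => h hηW)
  let V₁ : Y.Opens := ⟨(closure (φ '' ((W : Set X)ᶜ)))ᶜ, isClosed_closure.isOpen_compl⟩
  obtain ⟨r₀, hr₀le, hr₀mem⟩ := hU₀.exists_basicOpen_le (V := V₁) ⟨φ η, hT⟩ hξU₀
  have hU : IsAffineOpen (Y.basicOpen r₀) := hU₀.basicOpen r₀
  have hle : φ ⁻¹ᵁ Y.basicOpen r₀ ≤ W := by
    intro x hx
    by_contra hxW
    exact hr₀le hx (subset_closure ⟨x, hxW, rfl⟩)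
  have hU' : IsAffineOpen (φ ⁻¹ᵁ Y.basicOpen r₀) := by
    have e : φ ⁻¹ᵁ Y.basicOpen r₀ = X.basicOpen (φ.appLE U₀ W hWU r₀) := by
      have e0 : φ.appLE U₀ W hWU r₀ = X.presheaf.map (homOfLE hWU).op (φ.app U₀ r₀) := rfl
      rw [e0, Scheme.basicOpen_res, ← Scheme.preimage_basicOpen]
      exact (inf_eq_right.2 hle).symm
    rw [e]
    exact hW.basicOpen _
  obtain ⟨r, hr, hcl⟩ := exists_basicOpen_isClosedImmersion φ hU hU' η hr₀mem hη
  exact ⟨Y.basicOpen r, ⟨⟨η, hr⟩⟩, hcl⟩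

/-- **A monomorphism of finite type (from a noetherian scheme to a locally noetherian one) is a
closed immersion over a dense open subset of the target whose preimage is nonempty.** -/
theorem exists_dense_open_isClosedImmersion [Mono φ] [LocallyOfFiniteType φ]
    [IsLocallyNoetherian Y] [TopologicalSpace.NoetherianSpace X] [Nonempty X] :
    ∃ U : Y.Opens, Dense (U : Set Y) ∧ Nonempty ↥(φ ⁻¹ᵁ U) ∧ IsClosedImmersion (φ ∣_ U) := by
  obtain ⟨W, hW, hmax⟩ := exists_largest_open φ @IsClosedImmersion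
  refine ⟨W, ?_, ?_, hW⟩
  · rw [dense_iff_inter_open]
    intro O hO hOne
    let O' : Y.Opens := ⟨O, hO⟩
    by_cases hemp : IsEmpty ↥(φ ⁻¹ᵁ O')
    · haveI : IsEmpty ↥(↑(φ ⁻¹ᵁ O') : Scheme.{u}) := hemp
      have hcl : IsClosedImmersion (φ ∣_ O') := inferInstance
      have hle := hmax O' hcl
      obtain ⟨y, hy⟩ := hOne
      exact ⟨y, hy, hle hy⟩
    · rw [not_isEmpty_iff] at hemp
      haveI : Nonempty ↥(↑(φ ⁻¹ᵁ O') : Scheme.{u}) := hemp
      haveI : Mono (φ ∣_ O') := by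
        have : Mono ((φ ∣_ O') ≫ O'.ι) := by
          rw [morphismRestrict_ι]; infer_instance
        exact mono_of_mono _ O'.ι
      haveI : TopologicalSpace.NoetherianSpace ↥(↑(φ ⁻¹ᵁ O') : Scheme.{u}) :=
        inferInstanceAs (TopologicalSpace.NoetherianSpace ↥((φ ⁻¹ᵁ O' : X.Opens) : Set X))
      obtain ⟨V', ⟨⟨z, hz⟩⟩, hV'⟩ := exists_open_isClosedImmersion (φ ∣_ O')
      rw [MorphismProperty.arrow_mk_iso_iff @IsClosedImmersion
        (morphismRestrictRestrict φ O' V')] at hV'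
      have hle := hmax _ hV'
      exact ⟨O'.ι ((φ ∣_ O') z), ((φ ∣_ O') z).2, hle ⟨_, hz, rfl⟩⟩
  · obtain ⟨V, hne, hV⟩ := exists_open_isClosedImmersion φ
    obtain ⟨⟨x, hx⟩⟩ := hne
    exact ⟨⟨x, hmax V hV hx⟩⟩

end Groth.Agent.Lib.Helper24.MonoImm
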